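import Groth.Agent.Lib.Helper90.DTen.FTD.CanonQis
import Groth.Agent.Lib.Helper90.DTen.BC.PerfMod
import Groth.Agent.Lib.Helper35.TorDim

/-!
# Base change for `RHom` along a ring map `R → R'` of finite tor dimension, `K` pseudo-coherent,
`M` bounded below (helper90)
-/

set_option autoImplicit false
set_option linter.style.haveILetI false
set_option backward.isDefEq.respectTransparency false
universe u
open CategoryTheory CategoryTheory.Limits MonoidalCategory
attribute [local instance] HasDerivedCategory.standard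

namespace Groth.Agent.Lib.Helper90.DTen.BC

open _root_.DTen Groth.Agent.Lib.Helper28 Groth.Agent.Lib.Helper26.AdjKProj
  Groth.Agent.Lib.Helper90.DTen Groth.Agent.Lib.Helper26.TensorHomCx

section General

variable {R R' : Type u} [CommRing R] [CommRing R'] (φ : R →+* R')

/-- The key quasi-isomorphism, with the hypothesis on `canon` made explicit. -/
theorem quasiIso_ext_comp_beta_of_canon (E : DRing.Cx R) (hE : TensCx.KFlat E)
    (q : E ⟶ resUnit φ) [QuasiIso q]
    (P N H : DRing.Cx R) [P.IsKProjective] [N.IsKProjective] [H.IsKProjective]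
    (s : H ⟶ DRing.homCx P N) [QuasiIso s] (hcan : QuasiIso (canon E N P)) :
    QuasiIso ((extCx φ).map s ≫ beta φ P N) := by
  haveI := hcan
  haveI : QuasiIso (uMap φ E q H) := quasiIso_uMap φ E q H
  haveI : QuasiIso (uMap φ E q N) := quasiIso_uMap φ E q N
  haveI : QuasiIso (E ◁ s) := TensCx.quasiIso_whiskerLeft E
    (fun C hC => KProjFlat.acyclic_tensor_left_of_kflat E hE C hC) s
  haveI : QuasiIso (DRing.homCxMap P (uMap φ E q N)) :=
    Groth.Agent.Lib.Helper6.RHomKProj.quasiIso_homCxMap P (uMap φ E q N)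
  have hsq : uMap φ E q H ≫ ((resCx φ).map ((extCx φ).map s ≫ beta φ P N) ≫
      lam φ P ((extCx φ).obj N)) =
      (E ◁ s) ≫ canon E N P ≫ DRing.homCxMap P (uMap φ E q N) := by
    rw [Functor.map_comp, Category.assoc, ← Category.assoc (uMap φ E q H), ← uMap_naturality,
      Category.assoc, uMap_beta_lam]
  haveI : QuasiIso (uMap φ E q H ≫ ((resCx φ).map ((extCx φ).map s ≫ beta φ P N) ≫
      lam φ P ((extCx φ).obj N))) := by
    rw [hsq]
    infer_instance
  haveI h1 : QuasiIso ((resCx φ).map ((extCx φ).map s ≫ beta φ P N) ≫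
      lam φ P ((extCx φ).obj N)) :=
    quasiIso_of_comp_left (uMap φ E q H) _
  haveI h2 : QuasiIso ((resCx φ).map ((extCx φ).map s ≫ beta φ P N)) :=
    quasiIso_of_comp_right _ (lam φ P ((extCx φ).obj N))
  exact (HomologicalComplex.quasiIso_map_iff_of_preservesHomology
    ((extCx φ).map s ≫ beta φ P N) (ModuleCat.restrictScalars.{u} φ)).1 h2

section Derived

variable [HasLTen R] [HasLTen R'] [HasRHom R] [HasRHom R'] [HasLBase φ] [HasResTen φ] [ResLegIso φ]

open Groth.Agent.Lib.Helper26.KProjQ Groth.Agent.Lib.Helper26.DTenKProj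

/-- `bcRHom` is an isomorphism as soon as `canon E N P` is a quasi-isomorphism for a K-flat
resolution `E` of `res 𝟙` and K-projective representatives `P`, `N` of `K`, `M`. -/
theorem isIso_bcRHom_of_canon (K M : Dual.D R) [IsIso (rhomBC φ K ((LBase φ).obj M))]
    (E : DRing.Cx R) (hE : TensCx.KFlat E) (q : E ⟶ resUnit φ) [QuasiIso q]
    (P N : DRing.Cx R) [P.IsKProjective] [N.IsKProjective]
    (eK : DerivedCategory.Q.obj P ≅ K) (eM : DerivedCategory.Q.obj N ≅ M)
    (hcan : QuasiIso (canon E N P)) :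
    IsIso (bcRHom φ K M) := by
  obtain ⟨H, hH, ⟨eH⟩⟩ := Groth.Agent.Lib.Helper32.LBC.exists_kproj_iso
    (DerivedCategory.Q.obj (DRing.homCx P N))
  obtain ⟨s, hs⟩ := Q_map_surjective H (DRing.homCx P N) eH.hom
  haveI : IsIso (DerivedCategory.Q.map s) := by
    rw [hs]
    infer_instance
  haveI : QuasiIso s := (DerivedCategory.isIso_Q_map_iff_quasiIso _ s).1 inferInstance
  have key := quasiIso_ext_comp_beta_of_canon φ E hE q P N H s hcan
  haveI : IsIso (DerivedCategory.Q.map ((extCx φ).map s ≫ beta φ P N)) :=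
    (DerivedCategory.isIso_Q_map_iff_quasiIso _ _).2 key
  haveI : IsIso ((baseCmp φ).app H) := Groth.Agent.Lib.Helper26.DTenSplit.isIso_baseCmp φ H
  refine isIso_bcRHom_of_cx' φ K M P N eK eM
    (Groth.Agent.Lib.Helper26.DTenSplit.isIso_baseCmp φ N) ?_
  have hnat := (baseCmp φ).naturality s
  dsimp only [Functor.comp_obj, Functor.comp_map] at hnat
  have e1 : (baseCmp φ).app (DRing.homCx P N) ≫ DerivedCategory.Q.map (beta φ P N) =
      inv ((LBase φ).map (DerivedCategory.Q.map s)) ≫ (baseCmp φ).app H ≫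
        DerivedCategory.Q.map ((extCx φ).map s ≫ beta φ P N) := by
    rw [IsIso.eq_inv_comp, ← Category.assoc, hnat, Category.assoc, ← Functor.map_comp]
  rw [e1]
  infer_instance

end Derived

/-- The quasi-isomorphism hypothesis on `canon` holds for `E` a K-projective complex quasi-isomorphic
to a bounded complex of flat modules, `P` bounded above with finite projective terms and `N`
cohomologically bounded below. -/
theorem quasiIso_canon_of_flat_bounded (E F N P : DRing.Cx R) [E.IsKProjective] [P.IsKProjective]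
    (pa pb b n : ℤ) (hF : DRing.VanishesOutside F pa pb) (hFflat : DRing.TermwiseFlat F)
    (e : DerivedCategory.Q.obj E ≅ DerivedCategory.Q.obj F)
    (hP : DRing.VanishesAbove P b)
    (hfp : ∀ q, Module.Finite R (P.X q) ∧ Module.Projective R (P.X q))
    [N.IsGE n] : QuasiIso (canon E N P) := by
  obtain ⟨t, ht⟩ := Groth.Agent.Lib.Helper26.KProjQ.Q_map_surjective E F e.hom
  haveI : QuasiIso t := by
    rw [← DerivedCategory.isIso_Q_map_iff_quasiIso, ht]
    infer_instance
  have hFk : TensCx.KFlat F := Groth.Agent.Lib.Helper79.TorCrit.kflat_of_flat F hFflat pb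
    (fun i hi => hF i (Or.inr hi))
  have hEk : TensCx.KFlat E := KProjFlat.kflat_of_isKProjective E
  haveI : QuasiIso (N.πTruncGE n) := inferInstance
  have hc : IsIso (canon F (N.truncGE n) P) :=
    isIso_canon_of_bounded F (N.truncGE n) P pa pb b n hF hP
      (fun i hi => (N.truncGE n).isZero_of_isStrictlyGE n i hi) hfp
  exact quasiIso_canon_of_isIso E F N (N.truncGE n) P hEk hFk t (N.πTruncGE n) hc

end General

section Alg

open Groth.Agent.Lib.Helper35.TA

variable (R R' : Type u) [CommRing R] [CommRing R'] [Algebra R R']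

/-- A bounded flat resolution of `R'` as an `R`-module, in `D(R)`, from finite tor dimension. -/
theorem exists_flat_resolution_of_hasFiniteTorDim (h : DRing.HasFiniteTorDim R R') :
    ∃ (F : DRing.Cx R) (d : ℕ), DRing.VanishesOutside F (-(d : ℤ)) 0 ∧ DRing.TermwiseFlat F ∧
      Nonempty (DerivedCategory.Q.obj F ≅ DerivedCategory.Q.obj (resUnit (algebraMap R R'))) := by
  obtain ⟨d, hd⟩ := h
  have h1 : TD d (ModuleCat.of R R') := (hasTorDimLE_iff_TD d R').1 hd
  obtain ⟨F, hF, hflat, ⟨e⟩⟩ := (TD_iff_TAmp d (ModuleCat.of R R')).1 h1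
  exact ⟨F, d, hF, hflat, ⟨e ≪≫
    (DerivedCategory.singleFunctorIsoCompQ (ModuleCat.{u} R) 0).app (ModuleCat.of R R') ≪≫
      DerivedCategory.Q.mapIso (resUnitIso R R')⟩⟩

variable [HasLTen R] [HasLTen R'] [HasRHom R] [HasRHom R'] [HasLBase (algebraMap R R')]
  [HasResTen (algebraMap R R')] [ResLegIso (algebraMap R R')]

/-- Base change for `RHom` along `R → R'` of finite tor dimension, `K` pseudo-coherent, `M`
bounded below. -/
theorem isIso_bcRHom_of_hasFiniteTorDim (K M : Dual.D R)
    [IsIso (rhomBC (algebraMap R R') K ((LBase (algebraMap R R')).obj M))]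
    (hR' : DRing.HasFiniteTorDim R R') (hK : DRing.IsPseudoCoherent' R K) (n : ℤ)
    (hM : DerivedCategory.IsGE M n) :
    IsIso (bcRHom (algebraMap R R') K M) := by
  obtain ⟨F, d, hF, hflat, ⟨eF⟩⟩ := exists_flat_resolution_of_hasFiniteTorDim R R' hR'
  obtain ⟨P, b, hP, hff, ⟨eK⟩⟩ := hK
  have hfp : ∀ q, Module.Finite R (P.X q) ∧ Module.Projective R (P.X q) := fun q => by
    haveI := (hff q).2
    exact ⟨(hff q).1, inferInstance⟩
  haveI : P.IsKProjective := Groth.Agent.Lib.Helper32.LBC.isKProjective_of_vanishesAbove P b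
    hP (fun i => (hfp i).2)
  obtain ⟨N, hN, ⟨eM⟩⟩ := Groth.Agent.Lib.Helper32.LBC.exists_kproj_iso M
  haveI := hN
  obtain ⟨E, q, hE, hq⟩ := Groth.Agent.Lib.Helper32.LBC.hasKProjRes R (resUnit (algebraMap R R'))
  haveI := hE
  haveI := hq
  haveI : IsIso (DerivedCategory.Q.map q) := by
    rw [DerivedCategory.isIso_Q_map_iff_quasiIso]; infer_instance
  haveI : N.IsGE n := by
    haveI : DerivedCategory.IsGE (DerivedCategory.Q.obj N) n :=
      DerivedCategory.TStructure.t.isGE_of_iso eM.symm n
    exact (DerivedCategory.isGE_Q_obj_iff N n).1 inferInstance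
  have hcan : QuasiIso (canon E N P) :=
    quasiIso_canon_of_flat_bounded E F N P (-(d : ℤ)) 0 b n hF hflat
      (asIso (DerivedCategory.Q.map q) ≪≫ eF.symm) hP hfp
  exact isIso_bcRHom_of_canon (algebraMap R R') K M E (KProjFlat.kflat_of_isKProjective E) q P N
    eK eM hcan

end Alg

end Groth.Agent.Lib.Helper90.DTen.BC
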