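import Groth.Agent.Lib.Helper90.DTen.CanonIso2

/-!
# The canonical map `K ⊗ Hom•(E, L) ⟶ Hom•(E, K ⊗ L)` is an isomorphism of complexes under a
degreewise finiteness hypothesis (e.g. `K` bounded, `E` bounded above with finite projective terms,
`L` bounded below) (helper90)
-/

set_option autoImplicit false
set_option linter.style.haveILetI false
set_option linter.unusedSectionVars false
universe u
open CategoryTheory CategoryTheory.Limits MonoidalCategory CochainComplex CochainComplex.HomComplex
open scoped TensorProduct

namespace Groth.Agent.Lib.Helper90.DTen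

open Groth.Agent.Lib.Helper26.TensorHomCx Groth.Agent.Lib.Helper28

variable {A : Type u} [CommRing A]

section Recon'

variable (E L : DRing.Cx A) (a b : ℤ)
  (k : ℤ → ℕ) (e : ∀ q, Fin (k q) → E.X q) (φ : ∀ q, Fin (k q) → E.X q →ₗ[A] A)
  (hφ : ∀ q x, ∑ i, φ q i x • e q i = x)

include hφ in
lemma sum_singleHom_evAt' (r : ℤ)
    (hE : ∀ q, q < a ∨ b < q → IsZero (E.X q) ∨ IsZero (L.X (q + r)))
    (w : (DRing.homCx E L).X r) :
    ∑ q ∈ Finset.Icc a b, ∑ j, (singleHom E L r q (q + r) rfl (φ q j)).hom
      ((evAt E L r q (q + r) rfl (e q j)).hom w) = w := by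
  classical
  refine Cochain.ext _ _ (fun q' s' hq' => ?_)
  apply ModuleCat.hom_ext
  apply LinearMap.ext
  intro m
  subst hq'
  change (evAt E L r q' (q' + r) rfl m).hom
    (∑ q ∈ Finset.Icc a b, ∑ j, (singleHom E L r q (q + r) rfl (φ q j)).hom
      ((evAt E L r q (q + r) rfl (e q j)).hom w)) = (evAt E L r q' (q' + r) rfl m).hom w
  rw [map_sum]
  by_cases hq' : q' ∈ Finset.Icc a b
  · rw [Finset.sum_eq_single q']
    · rw [map_sum]
      have h1 : ∀ j, (evAt E L r q' (q' + r) rfl m).hom
          ((singleHom E L r q' (q' + r) rfl (φ q' j)).hom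
            ((evAt E L r q' (q' + r) rfl (e q' j)).hom w)) =
          φ q' j m • ((toCochain w).v q' (q' + r) rfl).hom (e q' j) := fun j => by
        rw [evAt_singleHom_self]
        rfl
      rw [Finset.sum_congr rfl (fun j _ => h1 j),
        dualBasis_apply E k e φ hφ q' ((toCochain w).v q' (q' + r) rfl).hom m]
      rfl
    · intro q _ hne
      rw [map_sum]
      refine Finset.sum_eq_zero (fun j _ => ?_)
      exact evAt_singleHom_ne E L r q (q + r) rfl (φ q j) _ q' (q' + r) rfl (Ne.symm hne) m
    · intro h
      exact absurd hq' h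
  · have hq'' : q' < a ∨ b < q' := by
      rw [Finset.mem_Icc] at hq'
      omega
    rcases hE q' hq'' with hz | hz
    · have hsub : Subsingleton (E.X q') := ModuleCat.subsingleton_of_isZero hz
      have hm : m = 0 := Subsingleton.elim _ _
      subst hm
      rw [evAt_apply, map_zero]
      refine Finset.sum_eq_zero (fun q _ => ?_)
      rw [evAt_apply, map_zero]
    · have hsub : Subsingleton (L.X (q' + r)) := ModuleCat.subsingleton_of_isZero hz
      exact Subsingleton.elim _ _

include hφ in
lemma sum_lTensor_single_evAt' (r : ℤ)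
    (hE : ∀ q, q < a ∨ b < q → IsZero (E.X q) ∨ IsZero (L.X (q + r)))
    (N : Type u) [AddCommGroup N] [Module A N]
    (u : N ⊗[A] (DRing.homCx E L).X r) :
    ∑ q ∈ Finset.Icc a b, ∑ j, (singleHom E L r q (q + r) rfl (φ q j)).hom.lTensor N
      (((evAt E L r q (q + r) rfl (e q j)).hom).lTensor N u) = u := by
  induction u using TensorProduct.induction_on with
  | zero => simp
  | tmul x w =>
    simp only [LinearMap.lTensor_tmul]
    have h := sum_singleHom_evAt' E L a b k e φ hφ r hE w
    simp only [← TensorProduct.tmul_sum]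
    exact congrArg (fun t => x ⊗ₜ[A] t) h
  | add u v hu hv =>
    simp only [map_add, Finset.sum_add_distrib, hu, hv]

end Recon'

/-- The finiteness hypothesis in degree `n`: outside the window `[a, b]` for the degree `q` of `E`,
every summand `K^p ⊗ Hom(E^q, L^{q + n - p})` vanishes. -/
def CanonFinAt (K L E : DRing.Cx A) (n a b : ℤ) : Prop :=
  ∀ p, IsZero (K.X p) ∨ ∀ q, q < a ∨ b < q → IsZero (E.X q) ∨ IsZero (L.X (q + (n - p)))

theorem injective_canon_f_of_fin (K L E : DRing.Cx A) (n a b : ℤ) (H : CanonFinAt K L E n a b)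
    (hfp : ∀ q, Module.Finite A (E.X q) ∧ Module.Projective A (E.X q)) :
    Function.Injective ((canon K L E).f n).hom := by
  classical
  rw [injective_iff_map_eq_zero]
  intro z hz
  apply TensCx.eq_zero_of_proj_eq_zero
  intro p
  rcases H p with hKp | hp
  · haveI : Subsingleton (K.X p) := ModuleCat.subsingleton_of_isZero hKp
    haveI : Subsingleton (K.X p ⊗[A] (DRing.homCx E L).X (n - p)) :=
      inferInstance
    exact Subsingleton.elim _ _
  choose k e φ hφ using fun q => (by
    haveI := (hfp q).1
    haveI := (hfp q).2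
    exact exists_dualBasis (A := A) (E.X q))
  have hu := sum_lTensor_single_evAt' E L a b k e φ hφ (n - p) hp (K.X p)
    ((TensCx.proj K (DRing.homCx E L) p (n - p) n (by omega)).hom z)
  refine hu.symm.trans (Finset.sum_eq_zero (fun q _ => Finset.sum_eq_zero (fun j _ => ?_)))
  have h1 := canon_evAt_proj_apply K L E p (n - p) n q (q + n) (q + (n - p)) (by omega) rfl rfl
    (e q j) z
  rw [← h1, hz]
  have e0 : (toCochain (0 : (DRing.homCx E (K ⊗ L)).X n)).v q (q + n) rfl = 0 :=
    Cochain.zero_v _ _ _
  rw [e0]
  simp

theorem surjective_canon_f_of_fin (K L E : DRing.Cx A) (n a b : ℤ) (H : CanonFinAt K L E n a b)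
    (hfp : ∀ q, Module.Finite A (E.X q) ∧ Module.Projective A (E.X q)) :
    Function.Surjective ((canon K L E).f n).hom := by
  classical
  intro c
  choose k e φ hφ using fun q => (by
    haveI := (hfp q).1
    haveI := (hfp q).2
    exact exists_dualBasis (A := A) (E.X q))
  let z : (K ⊗ DRing.homCx E L).X n := ∑ q ∈ Finset.Icc a b, ∑ j,
    (tensSingle K E L n q (q + n) rfl (φ q j)).hom (((toCochain c).v q (q + n) rfl).hom (e q j))
  refine ⟨z, ?_⟩
  refine Cochain.ext _ _ (fun q' n' hq' => ?_)
  subst hq'
  apply ModuleCat.hom_ext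
  apply LinearMap.ext
  intro m
  rw [← sub_eq_zero]
  apply TensCx.eq_zero_of_proj_eq_zero
  intro p'
  rw [map_sub, sub_eq_zero]
  have key : ∀ (s : ℤ) (hs : p' + s = q' + n),
      (TensCx.proj K L p' s (q' + n) hs).hom
        (((toCochain (((canon K L E).f n).hom z)).v q' (q' + n) rfl).hom m) =
      (TensCx.proj K L p' s (q' + n) hs).hom (((toCochain c).v q' (q' + n) rfl).hom m) := by
    intro s hs
    obtain rfl : s = q' + (n - p') := by omega
    have h1 := canon_evAt_proj_apply K L E p' (n - p') n q' (q' + n) (q' + (n - p')) (by omega) rfl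
      rfl m z
    refine h1.trans ?_
    have hz : (TensCx.proj K (DRing.homCx E L) p' (n - p') n (by omega)).hom z =
        ∑ q ∈ Finset.Icc a b, ∑ j,
          (singleHom E L (n - p') q (q + (n - p')) rfl (φ q j)).hom.lTensor (K.X p')
            ((TensCx.proj K L p' (q + (n - p')) (q + n) (by omega)).hom
              (((toCochain c).v q (q + n) rfl).hom (e q j))) := by
      dsimp only [z]
      rw [map_sum]
      refine Finset.sum_congr rfl (fun q _ => ?_)
      rw [map_sum]
      refine Finset.sum_congr rfl (fun j _ => ?_)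
      exact congrArg (fun t => t.hom (((toCochain c).v q (q + n) rfl).hom (e q j)))
        (tensSingle_proj K E L n q (q + n) rfl (φ q j) p' (n - p') (q + (n - p')) (by omega) rfl)
    rw [hz, map_sum]
    by_cases hq' : q' ∈ Finset.Icc a b
    · rw [Finset.sum_eq_single q']
      · rw [map_sum]
        rw [Finset.sum_congr rfl (fun j _ => lTensor_evAt_single_self E L (K.X p') (n - p') q'
          (q' + (n - p')) rfl (φ q' j) m _)]
        exact dualBasis_apply E k e φ hφ q'
          ((TensCx.proj K L p' (q' + (n - p')) (q' + n) (by omega)).hom ∘ₗ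
            ((toCochain c).v q' (q' + n) rfl).hom) m
      · intro q _ hne
        rw [map_sum]
        refine Finset.sum_eq_zero (fun j _ => ?_)
        exact lTensor_evAt_single_ne E L (K.X p') (n - p') q (q + (n - p')) rfl (φ q j) q'
          (q' + (n - p')) rfl (Ne.symm hne) m _
      · intro h
        exact absurd hq' h
    · have hq'' : q' < a ∨ b < q' := by
        rw [Finset.mem_Icc] at hq'
        omega
      have hcase : IsZero (E.X q') ∨ Subsingleton (K.X p' ⊗[A] L.X (q' + (n - p'))) := by
        rcases H p' with hKp | hp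
        · haveI : Subsingleton (K.X p') := ModuleCat.subsingleton_of_isZero hKp
          exact Or.inr inferInstance
        · rcases hp q' hq'' with hz | hz
          · exact Or.inl hz
          · haveI : Subsingleton (L.X (q' + (n - p'))) := ModuleCat.subsingleton_of_isZero hz
            exact Or.inr inferInstance
      rcases hcase with hzE | hsub
      · have hsub : Subsingleton (E.X q') := ModuleCat.subsingleton_of_isZero hzE
        have hm : m = 0 := Subsingleton.elim _ _
        subst hm
        rw [map_zero, map_zero]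
        refine Finset.sum_eq_zero (fun q _ => ?_)
        rw [map_sum]
        refine Finset.sum_eq_zero (fun j _ => ?_)
        have h0 : evAt E L (n - p') q' (q' + (n - p')) rfl 0 = 0 := by
          apply ModuleCat.hom_ext
          apply LinearMap.ext
          intro w
          rw [evAt_apply, map_zero]
          rfl
        rw [h0]
        simp
      · exact hsub.elim _ _
  exact key _ _

/-- The canonical map is an isomorphism of complexes under the degreewise finiteness hypothesis. -/
theorem isIso_canon_of_fin (K L E : DRing.Cx A)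
    (H : ∀ n : ℤ, ∃ a b : ℤ, CanonFinAt K L E n a b)
    (hfp : ∀ q, Module.Finite A (E.X q) ∧ Module.Projective A (E.X q)) :
    IsIso (canon K L E) := by
  haveI : ∀ n, IsIso ((canon K L E).f n) := fun n => by
    obtain ⟨a, b, Hn⟩ := H n
    rw [ConcreteCategory.isIso_iff_bijective]
    exact ⟨injective_canon_f_of_fin K L E n a b Hn hfp, surjective_canon_f_of_fin K L E n a b Hn hfp⟩
  exact HomologicalComplex.Hom.isIso_of_components _

/-- `K` bounded, `E` bounded above with finite projective terms, `L` bounded below. -/
theorem isIso_canon_of_bounded (K L E : DRing.Cx A) (pa pb b m : ℤ)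
    (hK : ∀ p, p < pa ∨ pb < p → IsZero (K.X p)) (hE : ∀ q, b < q → IsZero (E.X q))
    (hL : ∀ i, i < m → IsZero (L.X i))
    (hfp : ∀ q, Module.Finite A (E.X q) ∧ Module.Projective A (E.X q)) :
    IsIso (canon K L E) := by
  refine isIso_canon_of_fin K L E (fun n => ⟨m - n + pa, b, fun p => ?_⟩) hfp
  by_cases hp : p < pa ∨ pb < p
  · exact Or.inl (hK p hp)
  · refine Or.inr (fun q hq => ?_)
    rcases hq with hq | hq
    · exact Or.inr (hL _ (by omega))
    · exact Or.inl (hE q hq)

end Groth.Agent.Lib.Helper90.DTen
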