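import Groth.Agent.Lib.Helper90.DTen.FTD.CanonFin
import Groth.Agent.Lib.Helper90.DTen.BC.Lam
import Groth.Agent.Lib.Helper79.TorCritA
import Groth.Agent.Lib.Helper6.RHomKProj

/-!
# Naturality of the canonical map `K ⊗ Hom•(M, L) ⟶ Hom•(M, K ⊗ L)` and its invariance under
quasi-isomorphisms (helper90)
-/

set_option autoImplicit false
set_option linter.style.haveILetI false
set_option linter.unusedSectionVars false
set_option backward.isDefEq.respectTransparency false
universe u
open CategoryTheory CategoryTheory.Limits MonoidalCategory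
open scoped TensorProduct

namespace Groth.Agent.Lib.Helper90.DTen

open Groth.Agent.Lib.Helper26.TensorHomCx Groth.Agent.Lib.Helper28 Groth.Agent.Lib.Helper90.DTen.BC

variable {A : Type u} [CommRing A]

/-- Naturality of the evaluation in the target. -/
lemma evCx_naturality (M : DRing.Cx A) {L L' : DRing.Cx A} (g : L ⟶ L') :
    (DRing.homCxMap M g ▷ M) ≫ evCx M L' = evCx M L ≫ g := by
  rw [← uncurryHom_eq, ← Category.id_comp (DRing.homCxMap M g), uncurryHom_comp_right]
  rfl

/-- Naturality of `canon` in the first variable. -/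
lemma canon_naturality_left {K K' : DRing.Cx A} (t : K ⟶ K') (L M : DRing.Cx A) :
    (t ▷ DRing.homCx M L) ≫ canon K' L M = canon K L M ≫ DRing.homCxMap M (t ▷ L) := by
  dsimp only [canon]
  rw [← curryHom_comp_left, ← curryHom_comp_right]
  congr 1
  rw [← Category.assoc, MonoidalCategory.associator_naturality_left, Category.assoc,
    Category.assoc, MonoidalCategory.whisker_exchange]

/-- Naturality of `canon` in the middle variable. -/
lemma canon_naturality_mid (K : DRing.Cx A) {L L' : DRing.Cx A} (g : L ⟶ L') (M : DRing.Cx A) :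
    (K ◁ DRing.homCxMap M g) ≫ canon K L' M = canon K L M ≫ DRing.homCxMap M (K ◁ g) := by
  dsimp only [canon]
  rw [← curryHom_comp_left, ← curryHom_comp_right]
  congr 1
  rw [← Category.assoc, MonoidalCategory.associator_naturality_middle, Category.assoc,
    Category.assoc, ← MonoidalCategory.whiskerLeft_comp, ← MonoidalCategory.whiskerLeft_comp,
    evCx_naturality]

/-- `canon E N P` is a quasi-isomorphism as soon as it is an isomorphism after replacing `E` by a
quasi-isomorphic K-flat complex `F` and `N` by a quasi-isomorphic complex `N'`. -/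
theorem quasiIso_canon_of_isIso (E F N N' P : DRing.Cx A) [P.IsKProjective]
    (hE : TensCx.KFlat E) (hF : TensCx.KFlat F) (t : E ⟶ F) [QuasiIso t] (g : N ⟶ N') [QuasiIso g]
    (hc : IsIso (canon F N' P)) : QuasiIso (canon E N P) := by
  haveI := hc
  -- step 1: `canon F N P`
  haveI : QuasiIso (DRing.homCxMap P g) := Groth.Agent.Lib.Helper6.RHomKProj.quasiIso_homCxMap P g
  haveI : QuasiIso (F ◁ DRing.homCxMap P g) := TensCx.quasiIso_whiskerLeft F
    (fun C hC => KProjFlat.acyclic_tensor_left_of_kflat F hF C hC) _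
  haveI : QuasiIso (F ◁ g) := TensCx.quasiIso_whiskerLeft F
    (fun C hC => KProjFlat.acyclic_tensor_left_of_kflat F hF C hC) _
  haveI : QuasiIso (DRing.homCxMap P (F ◁ g)) :=
    Groth.Agent.Lib.Helper6.RHomKProj.quasiIso_homCxMap P (F ◁ g)
  have h2 := canon_naturality_mid F g P
  haveI : QuasiIso (canon F N P ≫ DRing.homCxMap P (F ◁ g)) := by
    rw [← h2]
    infer_instance
  haveI hFN : QuasiIso (canon F N P) :=
    quasiIso_of_comp_right (canon F N P) (DRing.homCxMap P (F ◁ g))
  -- step 2: `canon E N P`
  haveI : QuasiIso (t ▷ DRing.homCx P N) :=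
    Groth.Agent.Lib.Helper79.TorCrit.quasiIso_whiskerRight_of_kflat_kflat t hE hF _
  haveI : QuasiIso (t ▷ N) :=
    Groth.Agent.Lib.Helper79.TorCrit.quasiIso_whiskerRight_of_kflat_kflat t hE hF _
  haveI : QuasiIso (DRing.homCxMap P (t ▷ N)) :=
    Groth.Agent.Lib.Helper6.RHomKProj.quasiIso_homCxMap P (t ▷ N)
  have h1 := canon_naturality_left t N P
  haveI : QuasiIso (canon E N P ≫ DRing.homCxMap P (t ▷ N)) := by
    rw [← h1]
    infer_instance
  exact quasiIso_of_comp_right (canon E N P) (DRing.homCxMap P (t ▷ N))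

end Groth.Agent.Lib.Helper90.DTen
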